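import Groth.Agent.TFExt.Basic
import Groth.Agent.ArtPow.Basic
import Mathlib

/-!
Colengths of the powers of `(x², xy, y², xt, yt², t⁴)` on the surface `x² = yⁿ`.
-/

set_option autoImplicit false

open MvPowerSeries Finset Filter

namespace Groth.Agent.DblMult

noncomputable section

universe u

variable {k : Type u} [Field k]

/-- exponent -/
def e (a b c : ℕ) : Fin 3 →₀ ℕ := Finsupp.equivFunOnFinite.symm ![a, b, c]

/-- weight of an exponent -/
def wt (d : Fin 3 →₀ ℕ) : ℕ := 3 * d 0 + 2 * d 1 + d 2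

lemma e_eq (d : Fin 3 →₀ ℕ) : e (d 0) (d 1) (d 2) = d := by
  ext i; fin_cases i <;> simp [e]

@[simp] lemma e_zero (a b c : ℕ) : e a b c 0 = a := by simp [e]
@[simp] lemma e_one (a b c : ℕ) : e a b c 1 = b := by simp [e]
@[simp] lemma e_two (a b c : ℕ) : e a b c 2 = c := by simp [e]

/-- monomial -/
def mon (a b c : ℕ) : MvPowerSeries (Fin 3) k := X 0 ^ a * X 1 ^ b * X 2 ^ c

lemma mon_eq (a b c : ℕ) : (mon a b c : MvPowerSeries (Fin 3) k) = monomial (e a b c) 1 := by
  have : e a b c = Finsupp.single 0 a + Finsupp.single 1 b + Finsupp.single 2 c := by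
    ext i; fin_cases i <;> simp [e]
  rw [mon, X_pow_eq, X_pow_eq, X_pow_eq, monomial_mul_monomial, monomial_mul_monomial, this, one_mul, one_mul]

/-- the weight filtration -/
def W (l : ℕ) : Ideal (MvPowerSeries (Fin 3) k) where
  carrier := {f | ∀ d, wt d < l → coeff d f = 0}
  add_mem' := fun {f g} hf hg d hd => by rw [map_add, hf d hd, hg d hd, add_zero]
  zero_mem' := fun d _ => map_zero _
  smul_mem' := fun f g hg d hd => by
    classical
    rw [smul_eq_mul, coeff_mul]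
    refine Finset.sum_eq_zero fun ij hij => ?_
    rw [Finset.HasAntidiagonal.mem_antidiagonal] at hij
    rw [hg ij.2 (by rw [← hij] at hd; simp [wt] at hd ⊢; omega), mul_zero]

lemma mon_mem_W {a b c l : ℕ} (h : l ≤ 3 * a + 2 * b + c) : (mon a b c : MvPowerSeries (Fin 3) k) ∈ W l := by
  classical
  intro d hd
  rw [mon_eq, coeff_monomial, if_neg]
  rintro rfl
  simp [wt] at hd
  omega

lemma W_mul (l l' : ℕ) : W l * W l' ≤ (W (l + l') : Ideal (MvPowerSeries (Fin 3) k)) := by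
  classical
  rw [Ideal.mul_le]
  intro f hf g hg d hd
  rw [coeff_mul]
  refine Finset.sum_eq_zero fun ij hij => ?_
  rw [Finset.HasAntidiagonal.mem_antidiagonal] at hij
  rcases Nat.lt_or_ge (wt ij.1) l with h | h
  · rw [hf _ h, zero_mul]
  · rw [hg ij.2 (by rw [← hij] at hd; simp [wt] at hd h ⊢; omega), mul_zero]

variable (k) in
/-- the monomial ideal -/
def Mo : Ideal (MvPowerSeries (Fin 3) k) :=
  Ideal.span {X 0 ^ 2, X 0 * X 1, X 1 ^ 2, X 0 * X 2, X 1 * X 2 ^ 2, X 2 ^ 4}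

lemma Mo_le_W : Mo k ≤ W 4 := by
  rw [Mo, Ideal.span_le]
  intro f hf
  simp only [Set.mem_insert_iff, Set.mem_singleton_iff] at hf
  rcases hf with rfl | rfl | rfl | rfl | rfl | rfl
  · simpa [mon] using mon_mem_W (k := k) (a := 2) (b := 0) (c := 0) (l := 4) (by omega)
  · simpa [mon] using mon_mem_W (k := k) (a := 1) (b := 1) (c := 0) (l := 4) (by omega)
  · simpa [mon] using mon_mem_W (k := k) (a := 0) (b := 2) (c := 0) (l := 4) (by omega)
  · simpa [mon] using mon_mem_W (k := k) (a := 1) (b := 0) (c := 1) (l := 4) (by omega)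
  · simpa [mon] using mon_mem_W (k := k) (a := 0) (b := 1) (c := 2) (l := 4) (by omega)
  · simpa [mon] using mon_mem_W (k := k) (a := 0) (b := 0) (c := 4) (l := 4) (by omega)

lemma Mo_pow_le_W : ∀ m : ℕ, Mo k ^ m ≤ W (4 * m)
  | 0 => by
    rw [pow_zero, Ideal.one_eq_top]
    exact fun f _ d hd => absurd hd (Nat.not_lt_zero _)
  | m + 1 => by
    rw [pow_succ, mul_add, mul_one]
    exact (Ideal.mul_mono (Mo_pow_le_W m) Mo_le_W).trans (W_mul _ _)

/-- heavy normal monomials lie in the powers -/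
lemma mon_mem_pow : ∀ (m : ℕ) {r b c : ℕ}, r ≤ 1 → 4 * m ≤ 3 * r + 2 * b + c → (mon r b c : MvPowerSeries (Fin 3) k) ∈ Mo k ^ m
  | 0, r, b, c, _, _ => by simp
  | m + 1, r, b, c, hr, h => by
    rw [pow_succ]
    have key : ∀ {g : MvPowerSeries (Fin 3) k} {r' b' c' : ℕ}, g ∈ Mo k → mon r b c = mon r' b' c' * g → r' ≤ 1 →
        4 * m ≤ 3 * r' + 2 * b' + c' → mon r b c ∈ Mo k ^ m * Mo k := fun hg he hr' h' => by
      rw [he]; exact Ideal.mul_mem_mul (mon_mem_pow m hr' h') hg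
    interval_cases r
    · rcases Nat.lt_or_ge b 2 with hb | hb
      · interval_cases b
        · obtain ⟨c', rfl⟩ : ∃ c', c = c' + 4 := ⟨c - 4, by omega⟩
          exact key (g := X 2 ^ 4) (r' := 0) (b' := 0) (c' := c') (Ideal.subset_span (by simp)) (by simp [mon]; ring) (by omega) (by omega)
        · obtain ⟨c', rfl⟩ : ∃ c', c = c' + 2 := ⟨c - 2, by omega⟩
          exact key (g := X 1 * X 2 ^ 2) (r' := 0) (b' := 0) (c' := c') (Ideal.subset_span (by simp)) (by simp [mon]; ring) (by omega) (by omega)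
      · obtain ⟨b', rfl⟩ : ∃ b', b = b' + 2 := ⟨b - 2, by omega⟩
        exact key (g := X 1 ^ 2) (r' := 0) (b' := b') (c' := c) (Ideal.subset_span (by simp)) (by simp [mon]; ring) (by omega) (by omega)
    · rcases Nat.eq_zero_or_pos c with rfl | hc
      · obtain ⟨b', rfl⟩ : ∃ b', b = b' + 1 := ⟨b - 1, by omega⟩
        exact key (g := X 0 * X 1) (r' := 0) (b' := b') (c' := 0) (Ideal.subset_span (by simp)) (by simp [mon]; ring) (by omega) (by omega)
      · obtain ⟨c', rfl⟩ : ∃ c', c = c' + 1 := ⟨c - 1, by omega⟩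
        exact key (g := X 0 * X 2) (r' := 0) (b' := b) (c' := c') (Ideal.subset_span (by simp)) (by simp [mon]; ring) (by omega) (by omega)

/-- normal exponents below a weight -/
def T (m : ℕ) : Finset (ℕ × ℕ × ℕ) :=
  ((Finset.range 2) ×ˢ (Finset.range (2 * m + 1)) ×ˢ (Finset.range (4 * m + 1))).filter
    fun s => 3 * s.1 + 2 * s.2.1 + s.2.2 < 4 * m

lemma mem_T {m r b c : ℕ} : (r, b, c) ∈ T m ↔ r ≤ 1 ∧ 3 * r + 2 * b + c < 4 * m := by
  simp only [T, Finset.mem_filter, Finset.mem_product, Finset.mem_range]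
  omega

variable (n : ℕ)

/-- normal form coefficient -/
def nf (r b c : ℕ) : MvPowerSeries (Fin 3) k →ₗ[k] k :=
  ∑ q ∈ Finset.range (b + 1), if n * q ≤ b then coeff (e (2 * q + r) (b - n * q) c) else 0

lemma nf_apply (r b c : ℕ) (f : MvPowerSeries (Fin 3) k) :
    nf n r b c f = ∑ q ∈ Finset.range (b + 1), if n * q ≤ b then coeff (e (2 * q + r) (b - n * q) c) f else 0 := by
  rw [nf, LinearMap.sum_apply]
  exact Finset.sum_congr rfl fun q _ => by split_ifs <;> rfl

lemma nf_mon {r b c r' b' c' : ℕ} (hr : r ≤ 1) (hr' : r' ≤ 1) :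
    nf n r b c (mon r' b' c' : MvPowerSeries (Fin 3) k) = if (r, b, c) = (r', b', c') then 1 else 0 := by
  classical
  rw [nf_apply, Finset.sum_eq_single 0]
  · rw [if_pos (by simp), mon_eq, coeff_monomial]
    refine if_congr ⟨fun h => ?_, fun h => ?_⟩ rfl rfl
    · have h0 := DFunLike.congr_fun h 0
      have h1 := DFunLike.congr_fun h 1
      have h2 := DFunLike.congr_fun h 2
      simp at h0 h1 h2
      simp [h0, h1, h2]
    · simp only [Prod.mk.injEq] at h
      simp [h]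
  · intro q _ hq
    rw [mon_eq, coeff_monomial]
    split_ifs with h1 h2
    · have h0 := DFunLike.congr_fun h2 0
      simp at h0
      omega
    · rfl
    · rfl
  · simp

lemma nf_W {m r b c : ℕ} (hn : 3 ≤ n) (h : 3 * r + 2 * b + c < 4 * m) {f : MvPowerSeries (Fin 3) k} (hf : f ∈ W (4 * m)) :
    nf n r b c f = 0 := by
  rw [nf_apply]
  refine Finset.sum_eq_zero fun q _ => ?_
  split_ifs with hq
  · refine hf _ ?_
    have h3 : 3 * q ≤ n * q := Nat.mul_le_mul_right q hn
    simp [wt]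
    omega
  · rfl

lemma coeff_X_pow_mul (i : Fin 3) (j : ℕ) (g : MvPowerSeries (Fin 3) k) (d : Fin 3 →₀ ℕ) :
    coeff d (X i ^ j * g) = if j ≤ d i then coeff (d - Finsupp.single i j) g else 0 := by
  classical
  rw [X_pow_eq, coeff_monomial_mul]
  simp [Finsupp.single_le_iff]

lemma nf_rel (hn : 1 ≤ n) (r b c : ℕ) (hr : r ≤ 1) (g : MvPowerSeries (Fin 3) k) :
    nf n r b c (g * (X 0 ^ 2 - X 1 ^ n)) = 0 := by
  rw [mul_comm, sub_mul, map_sub, sub_eq_zero, nf_apply, nf_apply, Finset.sum_range_succ', Finset.sum_range_succ]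
  have hlast : (if n * b ≤ b then coeff (e (2 * b + r) (b - n * b) c) (X 1 ^ n * g) else 0) = 0 := by
    split_ifs with h
    · rw [coeff_X_pow_mul, if_neg]
      simp only [e_one]
      have : b ≤ n * b := Nat.le_mul_of_pos_left b hn
      omega
    · rfl
  have hfirst : (if n * 0 ≤ b then coeff (e (2 * 0 + r) (b - n * 0) c) (X 0 ^ 2 * g) else 0) = 0 := by
    rw [if_pos (by simp), coeff_X_pow_mul, if_neg]
    simp only [e_zero]
    omega
  rw [hfirst, hlast, add_zero, add_zero]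
  refine Finset.sum_congr rfl fun q _ => ?_
  rw [coeff_X_pow_mul, coeff_X_pow_mul]
  simp only [e_zero, e_one]
  have hq1 : n * (q + 1) = n * q + n := by ring
  by_cases h : n * (q + 1) ≤ b
  · rw [if_pos h, if_pos (by omega), if_pos (by omega), if_pos (by omega)]
    congr 2
    ext i
    fin_cases i <;> simp [e] <;> omega
  · rw [if_neg h]
    by_cases h' : n * q ≤ b
    · rw [if_pos h', if_neg (by omega)]
    · rw [if_neg h']

lemma mon_sub_mem (r q b c : ℕ) :
    (mon (2 * q + r) b c : MvPowerSeries (Fin 3) k) - mon r (b + n * q) c ∈ Ideal.span {X 0 ^ 2 - X 1 ^ n} := by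
  have : (mon (2 * q + r) b c : MvPowerSeries (Fin 3) k) - mon r (b + n * q) c =
      ((X 0 ^ 2) ^ q - (X 1 ^ n) ^ q) * mon r b c := by
    simp only [mon, pow_add, pow_mul]
    ring
  rw [this]
  exact Ideal.mul_mem_right _ _ (Ideal.mem_span_singleton.2 (sub_dvd_pow_sub_pow _ _ q))

lemma exists_poly : ∀ (N : ℕ) (f : MvPowerSeries (Fin 3) k),
    f ∈ (Submodule.span k (Set.range fun s : ℕ × ℕ × ℕ => (mon s.1 s.2.1 s.2.2 : MvPowerSeries (Fin 3) k))) ⊔
      ((Ideal.span (Set.range (X : Fin 3 → MvPowerSeries (Fin 3) k))) ^ N).restrictScalars k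
  | 0, f => Submodule.mem_sup_right (by simp)
  | N + 1, f => by
    let I := Ideal.span (Set.range (X : Fin 3 → MvPowerSeries (Fin 3) k))
    let S := Submodule.span k (Set.range fun s : ℕ × ℕ × ℕ => (mon s.1 s.2.1 s.2.2 : MvPowerSeries (Fin 3) k))
    have hc : f - C (constantCoeff f) ∈ I := ArtPow.sub_C_constantCoeff_mem f
    obtain ⟨co, hco⟩ := Ideal.mem_span_range_iff_exists_fun.1 hc
    have hX : ∀ (i : Fin 3) (y : MvPowerSeries (Fin 3) k), y ∈ S → X i * y ∈ S := fun i y hy => by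
      refine (Submodule.span_le.2 ?_ : S ≤ S.comap (LinearMap.mulLeft k (X i))) hy
      rintro _ ⟨⟨a, b, c⟩, rfl⟩
      fin_cases i
      · exact Submodule.subset_span ⟨(a + 1, b, c), by simp [mon]; ring⟩
      · exact Submodule.subset_span ⟨(a, b + 1, c), by simp [mon]; ring⟩
      · exact Submodule.subset_span ⟨(a, b, c + 1), by simp [mon]; ring⟩
    have hsum : ∀ i, co i * X i ∈ S ⊔ (I ^ (N + 1)).restrictScalars k := fun i => by
      obtain ⟨y, hy, z, hz, hyz⟩ := Submodule.mem_sup.1 (exists_poly N (co i))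
      rw [← hyz, add_mul, mul_comm y]
      exact Submodule.add_mem_sup (hX i y hy) (by
        show z * X i ∈ I ^ (N + 1)
        rw [pow_succ]; exact Ideal.mul_mem_mul hz (Ideal.subset_span ⟨i, rfl⟩))
    have hC : C (constantCoeff f) ∈ S := by
      have : (C (constantCoeff f) : MvPowerSeries (Fin 3) k) = constantCoeff f • mon 0 0 0 := by
        simp [mon, MvPowerSeries.smul_eq_C_mul]
      rw [this]
      exact S.smul_mem _ (Submodule.subset_span ⟨(0, 0, 0), rfl⟩)
    rw [show f = C (constantCoeff f) + ∑ i, co i * X i by rw [hco]; ring]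
    exact add_mem (Submodule.mem_sup_left hC) (sum_mem fun i _ => hsum i)

variable (k) in
/-- the relation ideal with the power -/
def K (m : ℕ) : Ideal (MvPowerSeries (Fin 3) k) := Mo k ^ m ⊔ Ideal.span {X 0 ^ 2 - X 1 ^ n}

lemma mon_mem_K {n m a b c : ℕ} (hn : 3 ≤ n) (h : 4 * m ≤ a + b + c) : (mon a b c : MvPowerSeries (Fin 3) k) ∈ K k n m := by
  obtain ⟨q, r, hr, rfl⟩ : ∃ q r, r ≤ 1 ∧ a = 2 * q + r := ⟨a / 2, a % 2, by omega, by omega⟩
  have := mon_sub_mem (k := k) n r q b c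
  rw [← sub_add_cancel (mon (2 * q + r) b c) (mon r (b + n * q) c)]
  refine add_mem (Ideal.mem_sup_right this) (Ideal.mem_sup_left (mon_mem_pow m hr ?_))
  have h3 : 3 * q ≤ n * q := Nat.mul_le_mul_right q hn
  omega

lemma pow_le_K {n : ℕ} (hn : 3 ≤ n) : ∀ (j : ℕ), ∀ m, 4 * m ≤ j →
    (Ideal.span (Set.range (X : Fin 3 → MvPowerSeries (Fin 3) k))) ^ j ≤ K k n m := by
  intro j m hm
  have hle : ∀ l, (Ideal.span (Set.range (X : Fin 3 → MvPowerSeries (Fin 3) k))) ^ l ≤
      Ideal.span {f | ∃ a b c, l = a + b + c ∧ f = mon a b c} := by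
    intro l
    induction l with
    | zero =>
      intro f _
      rw [← mul_one f]
      exact Ideal.mul_mem_left _ _ (Ideal.subset_span ⟨0, 0, 0, rfl, by simp [mon]⟩)
    | succ l ih =>
      rw [pow_succ]
      refine (Ideal.mul_mono ih le_rfl).trans ?_
      rw [Ideal.span_mul_span', Ideal.span_le]
      rintro _ ⟨_, ⟨a, b, c, rfl, rfl⟩, _, ⟨i, rfl⟩, rfl⟩
      fin_cases i
      · exact Ideal.subset_span ⟨a + 1, b, c, by omega, by simp [mon]; ring⟩
      · exact Ideal.subset_span ⟨a, b + 1, c, by omega, by simp [mon]; ring⟩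
      · exact Ideal.subset_span ⟨a, b, c + 1, by omega, by simp [mon]; ring⟩
  refine (hle j).trans (Ideal.span_le.2 ?_)
  rintro _ ⟨a, b, c, rfl, rfl⟩
  exact mon_mem_K hn hm

lemma card_T (m : ℕ) (hm : 1 ≤ m) :
    (T m).card = 2 * m * (2 * m + 1) + (2 * m - 1) * (2 * m - 1) := by
  have h : T m = ((Finset.range (2 * m)).sigma fun b => Finset.range (4 * m - 2 * b)).image (fun x => (0, x.1, x.2)) ∪
      ((Finset.range (2 * m - 1)).sigma fun b => Finset.range (4 * m - 3 - 2 * b)).image (fun x => (1, x.1, x.2)) := by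
    ext ⟨r, b, c⟩
    simp only [mem_T, Finset.mem_union, Finset.mem_image, Finset.mem_sigma, Finset.mem_range, Prod.mk.injEq,
      Sigma.exists]
    constructor
    · rintro ⟨hr, h⟩
      interval_cases r
      · exact Or.inl ⟨b, c, ⟨by omega, by omega⟩, rfl, rfl, rfl⟩
      · exact Or.inr ⟨b, c, ⟨by omega, by omega⟩, rfl, rfl, rfl⟩
    · rintro (⟨b', c', ⟨h1, h2⟩, rfl, rfl, rfl⟩ | ⟨b', c', ⟨h1, h2⟩, rfl, rfl, rfl⟩) <;> omega
  have inj : ∀ r : ℕ, Function.Injective fun x : (_ : ℕ) × ℕ => (r, x.1, x.2) := fun r x y hxy => by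
    simp only [Prod.mk.injEq] at hxy
    exact Sigma.ext hxy.2.1 (heq_of_eq hxy.2.2)
  rw [h, Finset.card_union_of_disjoint (Finset.disjoint_left.2 fun x hx hy => by
      simp only [Finset.mem_image] at hx hy
      obtain ⟨_, _, rfl⟩ := hx
      obtain ⟨_, _, hy⟩ := hy
      simp at hy),
    Finset.card_image_of_injective _ (inj 0), Finset.card_image_of_injective _ (inj 1), Finset.card_sigma, Finset.card_sigma]
  simp only [Finset.card_range]
  have h1 : ∀ j, j ≤ 2 * m → (∑ b ∈ Finset.range j, (4 * m - 2 * b)) + j * j = (4 * m + 1) * j := by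
    intro j hj
    induction j with
    | zero => simp
    | succ j ih =>
      rw [Finset.sum_range_succ]
      have h0 := ih (by omega)
      have : (j + 1) * (j + 1) = j * j + 2 * j + 1 := by ring
      rw [this, mul_add (4 * m + 1) j 1, mul_one]
      omega
  have h2 : ∀ j, j ≤ 2 * m - 1 → (∑ b ∈ Finset.range j, (4 * m - 3 - 2 * b)) + j * j = (4 * m - 2) * j := by
    intro j hj
    induction j with
    | zero => simp
    | succ j ih =>
      rw [Finset.sum_range_succ]
      have h0 := ih (by omega)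
      have : (j + 1) * (j + 1) = j * j + 2 * j + 1 := by ring
      rw [this, mul_add (4 * m - 2) j 1, mul_one]
      omega
  obtain ⟨l, rfl⟩ : ∃ l, m = l + 1 := ⟨m - 1, by omega⟩
  have e1 := h1 (2 * (l + 1)) le_rfl
  have e2 := h2 (2 * (l + 1) - 1) le_rfl
  rw [show 2 * (l + 1) - 1 = 2 * l + 1 by omega] at e2 ⊢
  rw [show 4 * (l + 1) - 2 = 4 * l + 2 by omega] at e2
  nlinarith [e1, e2]

variable (k) in
/-- the quotient ring -/
abbrev A : Type u := MvPowerSeries (Fin 3) k ⧸ Ideal.span {(X 0 ^ 2 - X 1 ^ n : MvPowerSeries (Fin 3) k)}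

theorem length_eq {n : ℕ} (hn : 3 ≤ n) (m : ℕ) (J : Ideal (A k n))
    (hJ : J = (Mo k ^ m).map (Ideal.Quotient.mk _)) :
    Module.length (A k n) (A k n ⧸ J) = ((T m).card : ℕ∞) := by
  classical
  let g : MvPowerSeries (Fin 3) k →ₐ[k] A k n ⧸ J := (Ideal.Quotient.mkₐ k J).comp (Ideal.Quotient.mkₐ k _)
  have hg : Function.Surjective g := (Ideal.Quotient.mkₐ_surjective k J).comp (Ideal.Quotient.mkₐ_surjective k _)
  have hker : ∀ f, g f = 0 ↔ f ∈ K k n m := fun f => by
    refine Ideal.Quotient.eq_zero_iff_mem.trans ?_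
    show Ideal.Quotient.mk _ f ∈ J ↔ _
    rw [hJ, ← Ideal.mem_comap, Ideal.comap_map_of_surjective _ Ideal.Quotient.mk_surjective, ← RingHom.ker_eq_comap_bot,
      Ideal.mk_ker]
    rfl
  let φ : MvPowerSeries (Fin 3) k →ₗ[k] (T m → k) := LinearMap.pi fun s => nf n s.1.1 s.1.2.1 s.1.2.2
  have hφK : ∀ f ∈ K k n m, φ f = 0 := by
    intro f hf
    funext s
    obtain ⟨⟨r, b, c⟩, hs⟩ := s
    obtain ⟨hr, hw⟩ := mem_T.1 hs
    obtain ⟨p, hp, y, hy, rfl⟩ := Submodule.mem_sup.1 hf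
    obtain ⟨g', rfl⟩ := Ideal.mem_span_singleton'.1 hy
    show nf n r b c (p + g' * _) = 0
    rw [map_add, nf_W n hn hw (Mo_pow_le_W m hp), nf_rel n (by omega) r b c hr, add_zero]
  let ψ : (T m → k) →ₗ[k] A k n ⧸ J :=
    ∑ s : T m, (LinearMap.proj s).smulRight (g (mon s.1.1 s.1.2.1 s.1.2.2))
  have hψ : ∀ v, ψ v = g (∑ s : T m, v s • mon s.1.1 s.1.2.1 s.1.2.2) := fun v => by simp [ψ]
  have hinj : Function.Injective ψ := by
    rw [injective_iff_map_eq_zero]
    intro v hv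
    rw [hψ, hker] at hv
    have := hφK _ hv
    rw [map_sum] at this
    funext s
    have h1 := congrFun this s
    rw [Finset.sum_apply, Pi.zero_apply, Finset.sum_eq_single s] at h1
    · obtain ⟨⟨r, b, c⟩, hs⟩ := s
      rw [map_smul, Pi.smul_apply] at h1
      have h2 : φ (mon r b c) ⟨(r, b, c), hs⟩ = 1 := by
        show nf n r b c _ = 1
        rw [nf_mon n (mem_T.1 hs).1 (mem_T.1 hs).1, if_pos rfl]
      rw [h2, smul_eq_mul, mul_one] at h1
      exact h1
    · intro s' _ hne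
      obtain ⟨⟨r, b, c⟩, hs⟩ := s
      obtain ⟨⟨r', b', c'⟩, hs'⟩ := s'
      rw [map_smul, Pi.smul_apply]
      have h2 : φ (mon r' b' c') ⟨(r, b, c), hs⟩ = 0 := by
        show nf n r b c _ = 0
        rw [nf_mon n (mem_T.1 hs).1 (mem_T.1 hs').1, if_neg]
        exact fun h => hne (Subtype.ext h.symm)
      rw [h2, smul_zero]
    · exact fun h => absurd (Finset.mem_univ s) h
  have hsurj : Function.Surjective ψ := by
    intro y
    obtain ⟨f, rfl⟩ := hg y
    suffices h : g f ∈ LinearMap.range ψ from h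
    obtain ⟨p, hp, z, hz, rfl⟩ := Submodule.mem_sup.1 (exists_poly (4 * m) f)
    rw [map_add, (hker z).2 (pow_le_K hn (4 * m) m le_rfl hz), add_zero]
    refine (Submodule.span_le.2 ?_ : _ ≤ (LinearMap.range ψ).comap g.toLinearMap) hp
    rintro _ ⟨⟨a, b, c⟩, rfl⟩
    obtain ⟨q, r, hr, rfl⟩ : ∃ q r, r ≤ 1 ∧ a = 2 * q + r := ⟨a / 2, a % 2, by omega, by omega⟩
    show g (mon (2 * q + r) b c) ∈ LinearMap.range ψ
    have he : g (mon (2 * q + r) b c) = g (mon r (b + n * q) c) := by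
      rw [← sub_eq_zero, ← map_sub, hker]
      exact Ideal.mem_sup_right (mon_sub_mem n r q b c)
    rw [he]
    by_cases hs : (r, b + n * q, c) ∈ T m
    · refine ⟨Pi.single ⟨_, hs⟩ 1, ?_⟩
      rw [hψ, Finset.sum_eq_single ⟨_, hs⟩]
      · simp
      · intro s _ hne; simp [Pi.single_eq_of_ne hne]
      · simp
    · rw [(hker _).2 (Ideal.mem_sup_left (mon_mem_pow m hr (by
        by_contra h
        exact hs (mem_T.2 ⟨hr, by omega⟩))))]
      exact zero_mem _
  haveI : FiniteDimensional k (A k n ⧸ J) := Module.Finite.of_surjective ψ hsurj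
  have hA : ∀ P : Ideal (A k n), P.IsMaximal → ∀ a, ∃ c : k, a - algebraMap k (A k n) c ∈ P := by
    intro P hP a
    obtain ⟨f, rfl⟩ := Ideal.Quotient.mk_surjective a
    refine ⟨constantCoeff f, ?_⟩
    haveI := hP
    have hQ : (P.comap (Ideal.Quotient.mk (Ideal.span {(X 0 ^ 2 - X 1 ^ n : MvPowerSeries (Fin 3) k)}))).IsMaximal :=
      Ideal.comap_isMaximal_of_surjective _ Ideal.Quotient.mk_surjective
    show Ideal.Quotient.mk _ (f - C (constantCoeff f)) ∈ P
    rw [← Ideal.mem_comap, IsLocalRing.eq_maximalIdeal hQ, IsLocalRing.mem_maximalIdeal, mem_nonunits_iff,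
      isUnit_iff_constantCoeff]
    simp
  rw [TFExt.length_eq_finrank hA (A k n ⧸ J), ← LinearEquiv.finrank_eq (LinearEquiv.ofBijective ψ ⟨hinj, hsurj⟩),
    Module.finrank_pi, Fintype.card_coe]

theorem main {n : ℕ} (hn : 3 ≤ n) (I : Ideal (A k n)) (hI : I = (Mo k).map (Ideal.Quotient.mk _)) :
    Module.length (A k n) (A k n ⧸ I) = 7 ∧
      Tendsto (fun m : ℕ => (2 : ℝ) * ((Module.length (A k n) (A k n ⧸ I ^ m)).toNat : ℝ) / (m : ℝ) ^ 2) atTop (nhds 16) := by
  constructor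
  · rw [length_eq hn 1 I (by rw [hI, pow_one]), card_T 1 le_rfl]
    rfl
  · have h1 : Tendsto (fun m : ℕ => (16 : ℝ) - 4 / m + 2 / (m : ℝ) ^ 2) atTop (nhds 16) := by
      have ha := tendsto_const_div_atTop_nhds_zero_nat (4 : ℝ)
      have hb : Tendsto (fun m : ℕ => (2 : ℝ) / (m : ℝ) ^ 2) atTop (nhds 0) :=
        tendsto_const_nhds.div_atTop ((tendsto_pow_atTop two_ne_zero).comp tendsto_natCast_atTop_atTop)
      simpa using (ha.const_sub 16).add hb
    refine h1.congr' ((eventually_ge_atTop 1).mono fun m hm => ?_)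
    show _ = (2 : ℝ) * _ / _
    rw [length_eq hn m (I ^ m) (by rw [hI, Ideal.map_pow]), ENat.toNat_coe, card_T m hm]
    have hm0 : (m : ℝ) ≠ 0 := by exact_mod_cast (show m ≠ 0 by omega)
    push_cast [Nat.cast_sub (show 1 ≤ 2 * m by omega)]
    field_simp
    ring

end

end Groth.Agent.DblMult
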